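import Cfsg.Agent.Lib.TwistedE6Fi22.Table

/-!
Kernel evaluations of the packed tables: the centraliser certificate.
-/

set_option autoImplicit false
set_option linter.all false
set_option maxRecDepth 20000

namespace CfsgLib.TwistedE6Fi22

theorem certA_eval : ((certWords.map fun w => pprod (w.map tT)).foldr padd (bzero 78) == certA) = true := by
  decide +kernel

/-- The first row of the basis, padded. -/
def certU : PM := certP.getD 0 0 :: bzero 77

theorem certU_kills : (pmul [certP.getD 0 0] certA == [0]) = true := by decide +kernel

theorem certB_eval : (pmul certA certB == padd bone (pmul certPhi certU)) = true := by decide +kernel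

theorem certPhi_col : ((List.range 78).all fun i => decide (certPhi.getD i 0 % 2 ^ 78 < 2) && decide (certPhi.getD i 0 < 2 ^ 79)) = true := by
  decide +kernel

theorem certQ_eval : (pmul certQ certP == bone) = true := by decide +kernel

theorem certSteps_eval : ((List.range 77).all fun j => pmul [certP.getD (certSteps.getD j (0, 0)).2 0] (tT (certSteps.getD j (0, 0)).1) == [certP.getD (j + 1) 0]) = true := by
  decide +kernel

theorem certSteps_lt : ((List.range 77).all fun j => decide ((certSteps.getD j (0, 0)).1 < 9 ∧ (certSteps.getD j (0, 0)).2 ≤ j)) = true := by
  decide +kernel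

end CfsgLib.TwistedE6Fi22
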