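import Cfsg.Agent.Lib.TwistedE6Fi22.Table

/-!
Kernel evaluations of the packed tables: the first three elements.
-/

set_option autoImplicit false
set_option linter.all false
set_option maxRecDepth 20000

namespace CfsgLib.TwistedE6Fi22

theorem tP_eval0 : (pprod ((tW.getD 0 []).map gT) == tP 0) = true := by decide +kernel

theorem tT_eval0 : (pmul (tT 0) (tP 0) == pmul (tP 0) (gT 0)) = true := by decide +kernel

theorem tP_eval1 : (pprod ((tW.getD 1 []).map gT) == tP 1) = true := by decide +kernel

theorem tT_eval1 : (pmul (tT 1) (tP 1) == pmul (tP 1) (gT 0)) = true := by decide +kernel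

theorem tP_eval2 : (pprod ((tW.getD 2 []).map gT) == tP 2) = true := by decide +kernel

theorem tT_eval2 : (pmul (tT 2) (tP 2) == pmul (tP 2) (gT 0)) = true := by decide +kernel

end CfsgLib.TwistedE6Fi22
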