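import Cfsg.Agent.Lib.TwistedE6Fi22.Table

/-!
Kernel evaluations of the packed tables: the middle three elements.
-/

set_option autoImplicit false
set_option linter.all false
set_option maxRecDepth 20000

namespace CfsgLib.TwistedE6Fi22

theorem tP_eval3 : (pprod ((tW.getD 3 []).map gT) == tP 3) = true := by decide +kernel

theorem tT_eval3 : (pmul (tT 3) (tP 3) == pmul (tP 3) (gT 0)) = true := by decide +kernel

theorem tP_eval4 : (pprod ((tW.getD 4 []).map gT) == tP 4) = true := by decide +kernel

theorem tT_eval4 : (pmul (tT 4) (tP 4) == pmul (tP 4) (gT 0)) = true := by decide +kernel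

theorem tP_eval5 : (pprod ((tW.getD 5 []).map gT) == tP 5) = true := by decide +kernel

theorem tT_eval5 : (pmul (tT 5) (tP 5) == pmul (tP 5) (gT 0)) = true := by decide +kernel

end CfsgLib.TwistedE6Fi22
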