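import Cfsg.Agent.Lib.TwistedE6Fi22.Table

/-!
Kernel evaluations of the packed tables: the last three elements.
-/

set_option autoImplicit false
set_option linter.all false
set_option maxRecDepth 20000

namespace CfsgLib.TwistedE6Fi22

theorem tP_eval6 : (pprod ((tW.getD 6 []).map gT) == tP 6) = true := by decide +kernel

theorem tT_eval6 : (pmul (tT 6) (tP 6) == pmul (tP 6) (gT 0)) = true := by decide +kernel

theorem tP_eval7 : (pprod ((tW.getD 7 []).map gT) == tP 7) = true := by decide +kernel

theorem tT_eval7 : (pmul (tT 7) (tP 7) == pmul (tP 7) (gT 0)) = true := by decide +kernel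

theorem tP_eval8 : (pprod ((tW.getD 8 []).map gT) == tP 8) = true := by decide +kernel

theorem tT_eval8 : (pmul (tT 8) (tP 8) == pmul (tP 8) (gT 0)) = true := by decide +kernel

end CfsgLib.TwistedE6Fi22
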