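import Cfsg.Agent.Lib.TwistedE6Fi22.Table

/-!
Kernel evaluations of the packed tables: the braid relations.
-/

set_option autoImplicit false
set_option linter.all false
set_option maxRecDepth 20000

namespace CfsgLib.TwistedE6Fi22

/-- The edges of the diagram. -/
def edgeList : List (ℕ × ℕ) :=
  [(0, 1), (1, 2), (2, 3), (3, 4), (3, 7), (4, 5), (5, 6), (7, 8)]

theorem edge_eval : (edgeList.all fun p => pmul (pmul (tT p.1) (tT p.2)) (tT p.1) == pmul (tT p.2) (pmul (tT p.1) (tT p.2))) = true := by
  decide +kernel

end CfsgLib.TwistedE6Fi22
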