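import Cfsg.Agent.Lib.TwistedE6Fi22.Table

/-!
Kernel evaluations of the packed tables: the three further relations.
-/

set_option autoImplicit false
set_option linter.all false
set_option maxRecDepth 20000

namespace CfsgLib.TwistedE6Fi22

theorem pw0_base : (pprod (([3, 2, 1, 3, 4, 5, 3, 7, 8] : List ℕ).map tT) == pw0_0) = true := by decide +kernel

theorem pw0_sq : ((pmul pw0_0 pw0_0 == pw0_1) && (pmul pw0_1 pw0_1 == pw0_2) && (pmul pw0_2 pw0_2 == pw0_3)) = true := by
  decide +kernel

theorem pw0_last : (pmul pw0_3 pw0_1 == bone) = true := by decide +kernel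

theorem pw1_base : (pprod (([0, 1, 2, 3, 4, 5, 7] : List ℕ).map tT) == pw1_0) = true := by decide +kernel

theorem pw1_sq : ((pmul pw1_0 pw1_0 == pw1_1) && (pmul pw1_1 pw1_1 == pw1_2) && (pmul pw1_2 pw1_2 == pw1_3)) = true := by
  decide +kernel

theorem pw1_last : (pmul pw1_3 pw1_0 == bone) = true := by decide +kernel

theorem pw2_base : (pprod (([1, 2, 3, 4, 5, 6, 7] : List ℕ).map tT) == pw2_0) = true := by decide +kernel

theorem pw2_sq : ((pmul pw2_0 pw2_0 == pw2_1) && (pmul pw2_1 pw2_1 == pw2_2) && (pmul pw2_2 pw2_2 == pw2_3)) = true := by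
  decide +kernel

theorem pw2_last : (pmul pw2_3 pw2_0 == bone) = true := by decide +kernel

end CfsgLib.TwistedE6Fi22
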