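import Cfsg.Agent.Lib.TwistedE6Fi22.Table

/-!
Kernel evaluations of the packed tables: the commuting pairs.
-/

set_option autoImplicit false
set_option linter.all false
set_option maxRecDepth 20000

namespace CfsgLib.TwistedE6Fi22

/-- The pairs not joined. -/
def nonEdgeList : List (ℕ × ℕ) :=
  [(0, 2), (0, 3), (0, 4), (0, 5), (0, 6), (0, 7), (0, 8), (1, 3), (1, 4), (1, 5), (1, 6), (1, 7), (1, 8), (2, 4), (2, 5), (2, 6), (2, 7), (2, 8), (3, 5), (3, 6), (3, 8), (4, 6), (4, 7), (4, 8), (5, 7), (5, 8), (6, 7), (6, 8)]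

theorem nonEdge_eval : (nonEdgeList.all fun p => pmul (tT p.1) (tT p.2) == pmul (tT p.2) (tT p.1)) = true := by
  decide +kernel

end CfsgLib.TwistedE6Fi22
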