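import Cfsg.Agent.Lib.TwistedE6Fi22.EvalGens
import Cfsg.Agent.Lib.TwistedE6Fi22.EvalConjA
import Cfsg.Agent.Lib.TwistedE6Fi22.EvalConjB
import Cfsg.Agent.Lib.TwistedE6Fi22.EvalConjC
import Cfsg.Agent.Lib.TwistedE6Fi22.EvalRels
import Cfsg.Agent.Lib.TwistedE6Fi22.EvalEdge
import Cfsg.Agent.Lib.TwistedE6Fi22.EvalPow
import Cfsg.Agent.Lib.TwistedE6Fi22.EvalCert

/-! All kernel evaluations of the packed tables. -/
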