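import Cfsg.Agent.Lib.TwistedE6Fi22.Table

/-!
Kernel evaluations of the packed tables: the generators.
-/

set_option autoImplicit false
set_option linter.all false
set_option maxRecDepth 20000

namespace CfsgLib.TwistedE6Fi22

theorem gT_eval0 : (gP 0 == gT 0) = true := by decide +kernel

theorem gT_eval1 : (gP 1 == gT 1) = true := by decide +kernel

theorem gT_eval2 : (gP 2 == gT 2) = true := by decide +kernel

theorem gT_eval3 : (gP 3 == gT 3) = true := by decide +kernel

theorem gT_eval4 : (gP 4 == gT 4) = true := by decide +kernel

theorem gT_eval5 : (gP 5 == gT 5) = true := by decide +kernel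

theorem gT_eval6 : (gP 6 == gT 6) = true := by decide +kernel

theorem gT_eval7 : (gP 7 == gT 7) = true := by decide +kernel

theorem gT_eval8 : (gP 8 == gT 8) = true := by decide +kernel

theorem gT_eval9 : (gP 9 == gT 9) = true := by decide +kernel

theorem gT_eval10 : (gP 10 == gT 10) = true := by decide +kernel

theorem gT_eval11 : (gP 11 == gT 11) = true := by decide +kernel

theorem tables_shaped : ((List.range 12).all fun g => shaped (gT g)) && ((List.range 9).all fun x => shaped (tT x)) && ((List.range 9).all fun x => shaped (tP x)) && shaped certA && shaped certB && shaped certPhi && shaped certP && shaped certQ = true := by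
  decide +kernel

end CfsgLib.TwistedE6Fi22
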