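import Cfsg.Agent.Lib.TwistedE6Fi22.Pack

/-!
The twelve generators of `²E₆(2)` as packed matrices.
-/

set_option autoImplicit false
set_option linter.all false

namespace CfsgLib.TwistedE6Fi22

open Cfsg.Lie CfsgLib.Chevalley

/-- The coefficient plane of `t ^ k` in `x_r(t)`. -/
def cpl (k r : ℕ) : List ℕ := plane (coefList chevE6 k r)

/-- `x_r(1)`, `x_r(ω)` and `x_r(ω²)`, by the number of the parameter. -/
def xp (r : ℕ) : ℕ → PM
  | 1 => pk (bxor (bxor bone (cpl 3 r)) (bxor (cpl 1 r) (cpl 2 r))) (bzero 78)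
  | 2 => pk (bxor (bxor bone (cpl 3 r)) (cpl 2 r)) (bxor (cpl 1 r) (cpl 2 r))
  | _ => pk (bxor (bxor bone (cpl 3 r)) (cpl 1 r)) (bxor (cpl 1 r) (cpl 2 r))

/-- The generators as words in root elements with numbered parameters. -/
def genSpec : List (List (ℕ × ℕ)) :=
  [[(46, 1)], [(25, 1)], [(39, 1)], [(32, 1)], [(56, 1), (36, 1)], [(56, 2), (36, 3)], [(15, 1), (35, 1)],
    [(15, 2), (35, 3)], [(42, 1), (37, 1)], [(42, 2), (37, 3)], [(29, 1), (34, 1)], [(29, 2), (34, 3)]]

/-- A generator. -/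
def gP (g : ℕ) : PM := pprod ((genSpec.getD g []).map fun p => xp p.1 p.2)

variable {K : Type*} [Field K] [CharP K 2]

/-- The parameters. -/
def par (w : K) : ℕ → K
  | 1 => 1
  | 2 => w
  | _ => w * w

/-- The numbering of the coordinates. -/
def e78 : chevE6.Idx ≃ Fin 78 := (code chevE6).trans (finCongr rfl)

theorem e78_val (a : chevE6.Idx) : ((e78 a : Fin 78) : ℕ) = (code chevE6 a : ℕ) := rfl

theorem code_coefIn (k r : ℕ) : (coefIn chevE6 K k r).submatrix e78.symm e78.symm =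
    bm K (cpl k r) := by
  rw [cpl, bm_plane]
  ext i j
  obtain ⟨a, rfl⟩ := e78.surjective i
  obtain ⟨b, rfl⟩ := e78.surjective j
  simp only [Matrix.submatrix_apply, Equiv.symm_apply_apply, coefIn, coefMat, Matrix.map_apply, Sparse.toMat_apply,
    Matrix.of_apply, e78_val]

theorem toM_xp {w : K} (hw : Omega w) (hD : WF chevE6) (r : Fin chevE6.nroots) (c : ℕ) :
    toM w (xp r c) = (xR chevE6 K r (par w c)).submatrix e78.symm e78.symm := by
  have hl : ∀ k, (cpl k r).length = 78 := fun k => by simp [cpl, plane]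
  have e : (xR chevE6 K r (par w c)).submatrix e78.symm e78.symm =
      1 + par w c • bm K (cpl 1 r) + par w c ^ 2 • bm K (cpl 2 r) + par w c ^ 3 • bm K (cpl 3 r) := by
    rw [xR_eq_sum chevE6 hD, ← code_coefIn, ← code_coefIn, ← code_coefIn]
    simp [Matrix.submatrix_add, Matrix.submatrix_smul]
  rw [e]
  have h3 : w * (w * w) = 1 := by
    linear_combination (w + 1) * hw.sq + (w : K) * CharTwo.two_eq_zero (R := K)
  have lb : bone.length = 78 := by simp [bone]
  have lz : ∀ A B : List ℕ, A.length = 78 → B.length = 78 → (bxor A B).length = 78 := fun A B a b => by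
    simp [bxor, a, b]
  have a1 := lz _ _ lb (hl 3)
  have b12 := lz _ _ (hl 1) (hl 2)
  have x3 : ∀ A : List ℕ, A.length = 78 →
      bm K (bxor (bxor bone (cpl 3 r)) A) = 1 + bm K (cpl 3 r) + bm K A := fun A hA => by
    rw [bm_bxor _ _ (a1.trans hA.symm), bm_bxor _ _ (lb.trans (hl 3).symm), bm_bone]
  have x12 : bm K (bxor (cpl 1 r) (cpl 2 r)) = bm K (cpl 1 r) + bm K (cpl 2 r) :=
    bm_bxor _ _ ((hl 1).trans (hl 2).symm)
  unfold xp par
  split
  · rw [toM_pk _ _ ((lz _ _ a1 b12).trans (by simp [bzero])), x3 _ b12, x12, bm_bzero, smul_zero, add_zero, one_pow, one_pow, one_smul, one_smul, one_smul]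
    abel
  · rw [toM_pk _ _ ((lz _ _ a1 (hl 2)).trans b12.symm), x3 _ (hl 2), x12, pow_two, hw.sq, show w ^ 3 = w * (w * w) by ring, h3, add_smul, one_smul, one_smul,
      smul_add]
    abel
  · rw [toM_pk _ _ ((lz _ _ a1 (hl 1)).trans b12.symm), x3 _ (hl 1), x12, show (w * w) ^ 2 = w * (w * (w * w)) by ring,
      show (w * w) ^ 3 = w * (w * w) * (w * (w * w)) by ring, h3, mul_one, mul_one, hw.sq, add_smul, one_smul,
      one_smul, smul_add]
    abel

end CfsgLib.TwistedE6Fi22
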