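import Cfsg.Agent.Lib.Chevalley.Basic
import Cfsg.Prelude.Def_ChevE6

/-!
Matrices of degree 78 over the field with four elements, packed as one list of bit rows: the entry
`a + b ω` of column `j` keeps `a` at bit `j` and `b` at bit `78 + j`.
-/

set_option autoImplicit false
set_option linter.all false

namespace CfsgLib.TwistedE6Fi22

open CfsgLib.Chevalley

/-- One number per row. -/
abbrev PM := List ℕ

/-- Bit row times bit matrix. -/
def dot : List ℕ → ℕ → ℕ
  | [], _ => 0
  | p :: B, a => (a % 2 * p) ^^^ dot B (a / 2)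

/-- Entrywise addition of bit matrices with equally many rows. -/
def bxor (A B : List ℕ) : List ℕ := List.zipWith (fun a b => a ^^^ b) A B

/-- Two planes in one list. -/
def pk (A B : List ℕ) : PM := List.zipWith (fun a b => (a % 2 ^ 78) ^^^ (b <<< 78)) A B

/-- A packed row times `ω`. -/
def wr (r : ℕ) : ℕ := ((r >>> 78) % 2 ^ 78) ^^^ (((r % 2 ^ 78) ^^^ (r >>> 78)) <<< 78)

/-- Product. -/
def pmul (M N : PM) : PM := M.map (dot (N ++ N.map wr))

/-- Sum. -/
def padd (M N : PM) : PM := bxor M N

/-- The unit. -/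
def bone : List ℕ := (List.range 78).map (2 ^ ·)

/-- The zero matrix. -/
def bzero (n : ℕ) : List ℕ := List.replicate n 0

/-- Shape: 78 rows. -/
def shaped (M : PM) : Bool := M.length == 78

/-- Product of a list, accumulated from the left so that every right factor is a tabulated matrix. -/
def pprod (L : List PM) : PM := L.foldl pmul bone

variable (K : Type*) [Field K]

/-- A bit as a field element. -/
def bitK (b : Bool) : K := if b then 1 else 0

/-- The matrix of a bit plane. -/
def bm (A : List ℕ) : Matrix (Fin 78) (Fin 78) K :=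
  Matrix.of fun i j => bitK K ((A.getD i 0).testBit j)

variable {K}

/-- The matrix of a packed list. -/
def toM (w : K) (M : PM) : Matrix (Fin 78) (Fin 78) K :=
  Matrix.of fun i j => bitK K ((M.getD i 0).testBit j) + w * bitK K ((M.getD i 0).testBit (78 + j))

theorem bitK_xor [CharP K 2] (a b : Bool) : bitK K (a ^^ b) = bitK K a + bitK K b := by
  cases a <;> cases b <;> simp [bitK, CharTwo.add_self_eq_zero]

theorem dot_bit [CharP K 2] (j : ℕ) : ∀ (C : List ℕ) (a : ℕ),
    bitK K ((dot C a).testBit j) =
      ∑ k ∈ Finset.range C.length, bitK K (a.testBit k) * bitK K ((C.getD k 0).testBit j) := by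
  intro C
  induction C with
  | nil => intro a; simp [dot, bitK]
  | cons p B ih =>
    intro a
    rw [List.length_cons, Finset.sum_range_succ', dot, Nat.testBit_xor, bitK_xor, ih (a / 2), add_comm]
    congr 1
    · exact Finset.sum_congr rfl fun k hk => by rw [Nat.testBit_div_two, List.getD_cons_succ]
    · rw [Nat.testBit_zero, List.getD_cons_zero]
      rcases Nat.mod_two_eq_zero_or_one a with h | h <;> rw [h] <;> simp [bitK]

theorem bm_bxor [CharP K 2] (A B : List ℕ) (h : A.length = B.length) :
    bm K (bxor A B) = bm K A + bm K B := by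
  ext i j
  simp only [bm, Matrix.of_apply, Matrix.add_apply]
  rw [← bitK_xor, ← Nat.testBit_xor]
  congr 2
  rcases lt_or_ge (i : ℕ) A.length with hi | hi
  · rw [List.getD_eq_getElem _ _ (by simpa [bxor, h] using h ▸ hi), List.getD_eq_getElem _ _ hi,
      List.getD_eq_getElem _ _ (h ▸ hi)]
    simp [bxor]
  · rw [List.getD_eq_default _ _ (by simp [bxor]; omega), List.getD_eq_default _ _ hi,
      List.getD_eq_default _ _ (h ▸ hi)]
    rfl

/-- The laws of a cube root of unity. -/
structure Omega (w : K) : Prop where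
  sq : w * w = 1 + w

variable {w : K}

theorem testBit_wr (r : ℕ) {j : ℕ} (hj : j < 78) :
    (wr r).testBit j = r.testBit (78 + j) ∧ (wr r).testBit (78 + j) = (r.testBit j ^^ r.testBit (78 + j)) := by
  constructor
  · rw [wr, Nat.testBit_xor, Nat.testBit_mod_two_pow, Nat.testBit_shiftLeft, Nat.testBit_shiftRight]
    simp [hj, not_le.2 hj]
  · rw [wr, Nat.testBit_xor, Nat.testBit_mod_two_pow, Nat.testBit_shiftLeft, Nat.add_sub_cancel_left,
      Nat.testBit_xor, Nat.testBit_mod_two_pow, Nat.testBit_shiftRight]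
    simp [hj]

theorem toM_pmul [CharP K 2] (hw : Omega w) (M N : PM) (hN : shaped N = true) :
    toM w (pmul M N) = toM w M * toM w N := by
  simp only [shaped, beq_iff_eq] at hN
  ext i j
  rw [Matrix.mul_apply, toM, Matrix.of_apply]
  rcases lt_or_ge (i : ℕ) M.length with h | h
  · rw [show (pmul M N).getD i 0 = dot (N ++ N.map wr) (M.getD i 0) by
      rw [List.getD_eq_getElem _ _ (by simpa [pmul] using h), List.getD_eq_getElem _ _ h]; simp [pmul],
      dot_bit, dot_bit, List.length_append, List.length_map, hN, Finset.sum_range_add, Finset.sum_range_add,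
      Finset.sum_range, Finset.sum_range, Finset.sum_range, Finset.sum_range, ← Finset.sum_add_distrib,
      ← Finset.sum_add_distrib, Finset.mul_sum, ← Finset.sum_add_distrib]
    refine Finset.sum_congr rfl fun k _ => ?_
    have hk : (k : ℕ) < N.length := by omega
    have e1 : (N ++ N.map wr).getD k 0 = N.getD k 0 := List.getD_append _ _ _ _ hk
    have e2 : (N ++ N.map wr).getD (78 + k) 0 = wr (N.getD k 0) := by
      rw [List.getD_append_right _ _ _ _ (by omega), hN, Nat.add_sub_cancel_left,
        List.getD_eq_getElem _ _ (by simpa using hk), List.getElem_map, List.getD_eq_getElem _ _ hk]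
    obtain ⟨w1, w2⟩ := testBit_wr (N.getD k 0) j.isLt
    rw [e1, e2, w1, w2, bitK_xor]
    simp only [toM, Matrix.of_apply]
    linear_combination (-(bitK K ((M.getD i 0).testBit (78 + k)) * bitK K ((N.getD k 0).testBit (78 + j)))) * hw.sq
  · rw [List.getD_eq_default _ _ (by simpa [pmul] using h),
      Finset.sum_eq_zero fun k _ => by simp [toM, bitK, List.getElem?_eq_none h]]
    simp [bitK]

theorem toM_padd [CharP K 2] (M N : PM) (h : M.length = N.length) :
    toM w (padd M N) = toM w M + toM w N := by
  ext i j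
  simp only [toM, Matrix.add_apply, Matrix.of_apply]
  have e : (padd M N).getD i 0 = M.getD i 0 ^^^ N.getD i 0 := by
    rcases lt_or_ge (i : ℕ) M.length with hi | hi
    · rw [List.getD_eq_getElem _ _ (by simp [padd, bxor]; omega), List.getD_eq_getElem _ _ hi,
        List.getD_eq_getElem _ _ (h ▸ hi)]
      simp [padd, bxor]
    · rw [List.getD_eq_default _ _ (by simp [padd, bxor]; omega), List.getD_eq_default _ _ hi,
        List.getD_eq_default _ _ (h ▸ hi)]
      rfl
  rw [e, Nat.testBit_xor, Nat.testBit_xor, bitK_xor, bitK_xor]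
  ring

theorem toM_pk (A B : List ℕ) (h : A.length = B.length) : toM w (pk A B) = bm K A + w • bm K B := by
  ext i j
  simp only [toM, bm, Matrix.add_apply, Matrix.smul_apply, Matrix.of_apply, smul_eq_mul]
  have e : (pk A B).getD i 0 = (A.getD i 0 % 2 ^ 78) ^^^ (B.getD i 0 <<< 78) := by
    rcases lt_or_ge (i : ℕ) A.length with hi | hi
    · rw [List.getD_eq_getElem _ _ (by simp [pk]; omega), List.getD_eq_getElem _ _ hi,
        List.getD_eq_getElem _ _ (h ▸ hi)]
      simp [pk]
    · rw [List.getD_eq_default _ _ (by simp [pk]; omega), List.getD_eq_default _ _ hi,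
        List.getD_eq_default _ _ (h ▸ hi)]
      rfl
  rw [e, Nat.testBit_xor, Nat.testBit_xor, Nat.testBit_mod_two_pow, Nat.testBit_mod_two_pow, Nat.testBit_shiftLeft,
    Nat.testBit_shiftLeft, Nat.add_sub_cancel_left]
  simp [j.isLt, not_le.2 j.isLt]

theorem bm_bzero (n : ℕ) : bm K (bzero n) = 0 := by
  ext i j
  rcases lt_or_ge (i : ℕ) n with h | h <;>
    simp [bm, bzero, bitK, List.getD_eq_getElem?_getD, List.getElem?_replicate, h, not_lt.2, h]

theorem bm_bone : bm K bone = 1 := by
  ext i j
  have h : bone.getD i 0 = 2 ^ (i : ℕ) := by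
    rw [List.getD_eq_getElem _ _ (by simp [bone])]; simp [bone]
  rw [bm, Matrix.of_apply, h, Nat.testBit_two_pow, Matrix.one_apply]
  simp [bitK, Fin.ext_iff]

theorem toM_bone : toM w bone = 1 := by
  ext i j
  have h : bone.getD i 0 = 2 ^ (i : ℕ) := by
    rw [List.getD_eq_getElem _ _ (by simp [bone])]; simp [bone]
  have := i.isLt
  rw [toM, Matrix.of_apply, h, Nat.testBit_two_pow, Nat.testBit_two_pow, Matrix.one_apply]
  simp [bitK, Fin.ext_iff, show ¬ ((i : ℕ) = 78 + j) by omega]

theorem toM_bzero (n : ℕ) : toM w (bzero n) = 0 := by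
  ext i j
  rcases lt_or_ge (i : ℕ) n with h | h <;>
    simp [toM, bzero, bitK, List.getD_eq_getElem?_getD, List.getElem?_replicate, h, not_lt.2, h]

theorem shaped_pmul {M N : PM} (hM : shaped M = true) : shaped (pmul M N) = true := by
  simp only [shaped, beq_iff_eq] at hM ⊢
  simp [pmul, hM]

theorem shaped_bone : shaped bone = true := by simp [shaped, bone]

theorem foldl_spec [CharP K 2] (hw : Omega w) : ∀ (L : List PM) (A : PM), shaped A = true →
    (∀ M ∈ L, shaped M = true) →
    shaped (L.foldl pmul A) = true ∧ toM w (L.foldl pmul A) = toM w A * (L.map (toM w)).prod := by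
  intro L
  induction L with
  | nil => intro A hA _; exact ⟨hA, by simp⟩
  | cons M L ih =>
    intro A hA h
    obtain ⟨h1, h2⟩ := ih (pmul A M) (shaped_pmul hA) fun N hN => h N (List.mem_cons_of_mem _ hN)
    refine ⟨h1, ?_⟩
    rw [List.foldl_cons, h2, toM_pmul hw _ _ (h M (by simp)), List.map_cons, List.prod_cons, mul_assoc]

theorem pprod_spec [CharP K 2] (hw : Omega w) (L : List PM) (h : ∀ M ∈ L, shaped M = true) :
    shaped (pprod L) = true ∧ toM w (pprod L) = (L.map (toM w)).prod := by
  obtain ⟨h1, h2⟩ := foldl_spec (K := K) hw L bone shaped_bone h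
  exact ⟨h1, by rw [pprod, h2, toM_bone, one_mul]⟩

/-- The plane of a sparse integer matrix modulo two. -/
def plane (L : Sparse.SMat) : List ℕ :=
  (List.range 78).map fun i =>
    L.foldr (fun e acc => if e.1 == i && e.2.2 % 2 != 0 then 2 ^ e.2.1 ^^^ acc else acc) 0

theorem bm_plane [CharP K 2] (L : Sparse.SMat) :
    bm K (plane L) = Matrix.of fun i j : Fin 78 => ((Sparse.entry L i j : ℤ) : K) := by
  ext i j
  rw [bm, Matrix.of_apply, Matrix.of_apply, List.getD_eq_getElem _ _ (by simp [plane]),
    show (plane L)[(i : ℕ)]'(by simp [plane]) =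
      L.foldr (fun e acc => if e.1 == (i : ℕ) && e.2.2 % 2 != 0 then 2 ^ e.2.1 ^^^ acc else acc) 0 by simp [plane]]
  induction L with
  | nil => simp [Sparse.entry, bitK]
  | cons e L ih =>
    rw [List.foldr_cons, Sparse.entry_cons, Int.cast_add, ← ih]
    rcases Int.emod_two_eq_zero_or_one e.2.2 with h | h
    · have h0 : ((e.2.2 : ℤ) : K) = 0 := by
        obtain ⟨k, hk⟩ := Int.dvd_of_emod_eq_zero h
        simp [hk, CharTwo.two_eq_zero]
      by_cases he : e.1 = (i : ℕ) <;> by_cases hj : e.2.1 = (j : ℕ) <;> simp [h, h0, he, hj]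
    · have h1 : ((e.2.2 : ℤ) : K) = 1 := by
        rw [show e.2.2 = 2 * (e.2.2 / 2) + 1 by omega]
        simp [CharTwo.two_eq_zero]
      by_cases he : e.1 = (i : ℕ)
      · rw [if_pos (by simp [he, h]), Nat.testBit_xor, bitK_xor, Nat.testBit_two_pow]
        congr 1
        by_cases hj : e.2.1 = (j : ℕ) <;> simp [bitK, hj, h1, he]
      · simp [he]

end CfsgLib.TwistedE6Fi22
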